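import Cfsg.Agent.Lib.RankThree.Tits

/-!
Kernel check: a product of one element from each of the eight classes of the unipotent group of
²F₄(2) with an odd number of factors of order four does not square to the identity.
-/

set_option autoImplicit false

namespace CfsgLib.TitsInvol

open Cfsg.Lie CfsgLib.Chev CfsgLib.RankThree.Tits

/-- The elements of the eight classes, as words in root elements, flagged when of order four. -/
def opts : List (List (Bool × List ℕ)) :=
  [[(false, []), (false, [33, 24])],
   [(false, []), (false, [36, 42]), (true, [26, 34, 42]), (true, [26, 34, 36])],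
   [(false, []), (false, [38, 43])],
   [(false, []), (false, [44, 47]), (true, [41, 29, 47]), (true, [41, 29, 44])],
   [(false, []), (false, [39, 45])],
   [(false, []), (false, [40, 46]), (true, [31, 35, 46]), (true, [31, 35, 40])],
   [(false, []), (false, [37, 32])],
   [(false, []), (false, [28, 30]), (true, [25, 27, 30]), (true, [25, 27, 28])]]

/-- The products of one element from each class. -/
def combos : List (List (Bool × List ℕ)) → List (Bool × List ℕ)
  | [] => [(false, [])]
  | o :: os => o.flatMap fun a => (combos os).map fun b => (xor a.1 b.1, a.2 ++ b.2)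

/-- An index other than `a` occurs exactly once in `L`. -/
def witness (a : ℕ) (L : List ℕ) : Bool :=
  L.any fun b => !(Nat.beq b a) && Nat.beq (L.count b) 1

/-- Some basis vector is moved by the square of the word. -/
noncomputable def moved (w : List ℕ) : Bool :=
  [23, 22, 21, 20, 25, 24, 27, 33].any fun a =>
    witness a (applyW chevF4 CfsgLib.Chev.F4.tabs (w ++ w) [a])

/-- The check for the `i`-th choice in the first two classes. -/
noncomputable def chunk (i : ℕ) : Bool :=
  let a := (combos (opts.take 2)).getD i (false, [])
  (combos (opts.drop 2)).all fun b => !(xor a.1 b.1) || moved (a.2 ++ b.2)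

theorem chunk0 : chunk 0 = true := by decide +kernel

theorem chunk1 : chunk 1 = true := by decide +kernel

theorem chunk2 : chunk 2 = true := by decide +kernel

theorem chunk3 : chunk 3 = true := by decide +kernel

theorem chunk4 : chunk 4 = true := by decide +kernel

theorem chunk5 : chunk 5 = true := by decide +kernel

theorem chunk6 : chunk 6 = true := by decide +kernel

theorem chunk7 : chunk 7 = true := by decide +kernel

theorem combos_append (l₂ : List (List (Bool × List ℕ))) :
    ∀ (l₁ : List (List (Bool × List ℕ))) {p : Bool × List ℕ}, p ∈ combos (l₁ ++ l₂) →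
      ∃ a ∈ combos l₁, ∃ b ∈ combos l₂, p = (xor a.1 b.1, a.2 ++ b.2)
  | [], p, h => ⟨(false, []), by simp [combos], p, h, by simp⟩
  | o :: os, p, h => by
    rw [List.cons_append, combos, List.mem_flatMap] at h
    obtain ⟨x, hx, h⟩ := h
    obtain ⟨q, hq, rfl⟩ := List.mem_map.1 h
    obtain ⟨a, ha, b, hb, rfl⟩ := combos_append l₂ os hq
    refine ⟨(xor x.1 a.1, x.2 ++ a.2), ?_, b, hb, by simp [Bool.xor_assoc]⟩
    rw [combos, List.mem_flatMap]
    exact ⟨x, hx, List.mem_map.2 ⟨a, ha, rfl⟩⟩

theorem moved_of_odd {p : Bool × List ℕ} (hp : p ∈ combos opts) (h : p.1 = true) :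
    moved p.2 = true := by
  rw [← List.take_append_drop 2 opts] at hp
  obtain ⟨a, ha, b, hb, rfl⟩ := combos_append _ _ hp
  obtain ⟨i, hi, rfl⟩ := List.mem_iff_getElem.1 ha
  have hi8 : i < 8 := hi
  have hall : chunk i = true := by
    interval_cases i
    exacts [chunk0, chunk1, chunk2, chunk3, chunk4, chunk5, chunk6, chunk7]
  have hb' := List.all_eq_true.1 hall b hb
  rw [List.getD_eq_getElem _ _ hi] at hb'
  simp only at h
  rw [h] at hb'
  simpa using hb'

end CfsgLib.TitsInvol
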