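import Cfsg.Agent.Lib.TitsInvol.Check
import Cfsg.Agent.Lib.Twisted.F4U

/-!
The involutions of the unipotent group of ²F₄(2) lie in the derived subgroup of ²F₄(2).
-/

set_option autoImplicit false
set_option linter.unusedSectionVars false
set_option maxRecDepth 4000

namespace CfsgLib.TitsInvol

open Cfsg.Lie CfsgLib.Chev CfsgLib.ReeF4 CfsgLib.RankThree
open scoped commutatorElement

variable {σ : MulAut ↥(chevF4.group (ZMod 2))}

/- the product of `x_r(1)` over a word -/
local notation "W" => Tits.wordGL chevF4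

theorem W_cons (r : ℕ) (w : List ℕ) : W (r :: w) = X r (1 : ZMod 2) * W w := by
  simp [Tits.wordGL]

theorem W_nil : W [] = 1 := rfl

/-- The members of the classes of simple roots. -/
def baseOpts : Bool → List (Bool × List ℕ)
  | false => [(false, []), (false, [33, 24])]
  | true => [(false, []), (false, [28, 30]), (true, [25, 27, 30]), (true, [25, 27, 28])]

theorem base_form (hσ : IsSigma 0 σ) (s : Bool) {g : GL chevF4.Idx (ZMod 2)}
    (hg : g ∈ V σ (JRoot s)) : ∃ p ∈ baseOpts s, g = W p.2 := by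
  have hlist := jRoot_list hσ (s := s)
  obtain ⟨h1, h2⟩ := hg
  obtain ⟨t, rfl⟩ := uGen_exists hc hcomm (closedPos_inv hc _) h1
  have e := (mem_fixF.1 h2).2
  have two : ∀ x : ZMod 2, x = 0 ∨ x = 1 := by decide
  cases s
  · simp only [cond_false] at hlist
    have hprod : ∀ u : ℕ → ZMod 2, uProd chevF4 (ZMod 2) (rootsFrom chevF4 (JRoot false) 0) u =
        X f4p1 (u f4p1) * X f4p4 (u f4p4) := fun u => by
      rw [hlist, ← (X_comm (show (f4p4, f4p1) ∈ _ by decide) (u f4p4) (u f4p1)).eq]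
      simp [uProd]
    rw [hprod, pair_sigma hσ (show (f4p1, f4p4) ∈ [(f4p1, f4p4), (f4m1, f4m4)] by simp)] at e
    have e' : uProd chevF4 (ZMod 2) (rootsFrom chevF4 (JRoot false) 0)
        (fun r => if r = f4p1 then t f4p4 ^ 2 ^ 0 else t f4p1 ^ (2 * 2 ^ 0)) =
        uProd chevF4 (ZMod 2) (rootsFrom chevF4 (JRoot false) 0) t := by
      rw [hprod, hprod, if_pos rfl, if_neg (by decide)]; exact e
    have := uProd_inj hc (closedPos_inv hc _).1 0 e' f4p1 (by rw [hlist]; simp)
    rw [if_pos rfl, pow_zero, pow_one] at this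
    rw [hprod, ← this]
    rcases two (t f4p4) with h | h <;> rw [h]
    · refine ⟨(false, []), by simp [baseOpts], ?_⟩
      rw [elX_zero' (show f4p1 < chevF4.nroots by decide),
        elX_zero' (show f4p4 < chevF4.nroots by decide), mul_one, W_nil]
    · refine ⟨(false, [33, 24]), by simp [baseOpts], ?_⟩
      simp [W_cons, W_nil, f4p1, f4p4]
  · simp only [cond_true] at hlist
    have hq : (f4a, f4b, f4ab, f4aab) ∈ quads := by simp [quads]
    have hprod : ∀ u : ℕ → ZMod 2, uProd chevF4 (ZMod 2) (rootsFrom chevF4 (JRoot true) 0) u =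
        X f4b (u f4b) * X f4a (u f4a) * X f4ab (u f4ab) * X f4aab (u f4aab) := fun u => by
      rw [hlist]; simp [uProd, mul_assoc]
    rw [hprod, quad_sigma hσ hq] at e
    let w : ℕ → ZMod 2 := fun r => if r = f4b then t f4a ^ (2 * 2 ^ 0) else if r = f4a then
      t f4b ^ 2 ^ 0 else if r = f4ab then t f4b ^ 2 ^ 0 * t f4a ^ (2 * 2 ^ 0) + t f4aab ^ 2 ^ 0
      else (t f4b ^ 2 ^ 0) ^ 2 * t f4a ^ (2 * 2 ^ 0) + t f4ab ^ (2 * 2 ^ 0)
    have e' : uProd chevF4 (ZMod 2) (rootsFrom chevF4 (JRoot true) 0) w =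
        uProd chevF4 (ZMod 2) (rootsFrom chevF4 (JRoot true) 0) t := by
      rw [hprod, hprod]; exact e
    have hi := uProd_inj hc (closedPos_inv hc _).1 0 e'
    rw [hlist] at hi
    have ea : t f4b ^ 2 ^ 0 = t f4a := hi f4a (by simp)
    have ee : (t f4b ^ 2 ^ 0) ^ 2 * t f4a ^ (2 * 2 ^ 0) + t f4ab ^ (2 * 2 ^ 0) = t f4aab :=
      hi f4aab (by simp)
    simp only [pow_zero, pow_one, mul_one] at ea ee
    rw [hprod, ← ee, ← ea]
    have ha := show f4a < chevF4.nroots by decide
    have hb := show f4b < chevF4.nroots by decide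
    have hab := show f4ab < chevF4.nroots by decide
    have haab := show f4aab < chevF4.nroots by decide
    rcases two (t f4b) with h | h <;> rcases two (t f4ab) with h' | h' <;> rw [h, h']
    · refine ⟨(false, []), by simp [baseOpts], ?_⟩
      simp [W_nil, elX_zero' ha, elX_zero' hb, elX_zero' hab, elX_zero' haab]
    · refine ⟨(false, [28, 30]), by simp [baseOpts], ?_⟩
      simp [W_cons, W_nil, elX_zero' ha, elX_zero' hb]
      simp [f4ab, f4aab]
    · refine ⟨(true, [25, 27, 30]), by simp [baseOpts], ?_⟩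
      simp [W_cons, W_nil, elX_zero' hab]
      simp [f4a, f4b, f4aab, mul_assoc]
    · refine ⟨(true, [25, 27, 28]), by simp [baseOpts], ?_⟩
      simp [W_cons, W_nil, show (1 : ZMod 2) + 1 = 0 from rfl, elX_zero' haab]
      simp [f4a, f4b, f4ab, mul_assoc]

theorem W_conj (L : List (Fin chevF4.rank)) : ∀ {w : List ℕ}, (∀ r ∈ w, r < chevF4.nroots) →
    nProd chevF4 (ZMod 2) L * W w * (nProd chevF4 (ZMod 2) L)⁻¹ = W (w.map (sigs chevF4 tb L))
  | [], _ => by simp [W_nil]
  | r :: w, h => by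
    rw [List.forall_mem_cons] at h
    obtain ⟨c, -, hcx⟩ := nProd_conj_elX hc (F := ZMod 2) L h.1
    have h1 : (c : ZMod 2) = 1 :=
      ((by decide : ∀ x : ZMod 2, x ≠ 0 → x = 1)) _ c.ne_zero
    rw [List.map_cons, W_cons, W_cons, ← W_conj L h.2]
    have := hcx 1
    rw [h1, one_mul] at this
    show _ = elX chevF4 (ZMod 2) (sigs chevF4 tb L r) 1 * _
    rw [← this]; group

theorem baseOpts_lt : ∀ s : Bool, ∀ p ∈ baseOpts s, ∀ r ∈ p.2, r < chevF4.nroots := by
  decide +kernel

theorem opts_eq : ∀ k : Fin 8, opts.getD k [] = (baseOpts (sideAt false k)).map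
    fun p => (p.1, p.2.map (sigs chevF4 tb (altW false k))) := by decide +kernel

theorem class_form (hσ : IsSigma 0 σ) {k : ℕ} (hk : k < 8) {g : GL chevF4.Idx (ZMod 2)}
    (hg : g ∈ V σ (SRoot false k)) : ∃ p ∈ baseOpts (sideAt false k),
      g = nProd chevF4 (ZMod 2) (altW false k) * W p.2 *
        (nProd chevF4 (ZMod 2) (altW false k))⁻¹ := by
  obtain ⟨h1, h2⟩ := hg
  set n := nProd chevF4 (ZMod 2) (altW false k)
  have hnF := nu_fixed hσ false k
  obtain ⟨p, hp, e⟩ := base_form hσ (sideAt false k) (g := n⁻¹ * g * n) (Subgroup.mem_inf.2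
    ⟨conj_nProd_inv_uGen _ (fun r hr hS => (sroot_iff hk hr).1 hS) h1,
      mul_mem (mul_mem (inv_mem hnF) h2) hnF⟩)
  exact ⟨p, hp, by rw [← e]; group⟩

theorem V_pos_form (hσ : IsSigma 0 σ) {g : GL chevF4.Idx (ZMod 2)} (hg : g ∈ V σ PosR) :
    ∃ c : Fin 8 → Bool × List ℕ, (∀ k : Fin 8, c k ∈ baseOpts (sideAt false k)) ∧
      g = (List.ofFn fun k : Fin 8 => nProd chevF4 (ZMod 2) (altW false k) * W (c k).2 *
        (nProd chevF4 (ZMod 2) (altW false k))⁻¹).prod := by
  have key : ∀ k ≤ 8, ∀ h ∈ V σ (IRoot false k), ∃ c : ℕ → Bool × List ℕ,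
      (∀ j < k, c j ∈ baseOpts (sideAt false j)) ∧
      h = ((List.range k).map fun j => nProd chevF4 (ZMod 2) (altW false j) * W (c j).2 *
        (nProd chevF4 (ZMod 2) (altW false j))⁻¹).prod := by
    intro k
    induction k with
    | zero =>
      intro _ h hh
      refine ⟨fun _ => (false, []), fun j hj => absurd hj (Nat.not_lt_zero j), ?_⟩
      have : uGen chevF4 (ZMod 2) (IRoot false 0) ≤ ⊥ :=
        uGen_le_iff.2 fun r hr h => absurd h.2 (Nat.not_lt.2 h.1)
      simpa using this hh.1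
    | succ k ih =>
      intro hk h hh
      obtain ⟨a, ha, b, hb, rfl⟩ := fixed_components hσ (Q := IRoot false k) (R := SRoot false k)
        (closedPos_inv hc _) (closedPos_inv hc _) (closedPos_sroot false k)
        (fun r _ x y => absurd x.2 (Nat.not_lt.2 y.2.1))
        (fun r hr => (iroot_split (by omega) hr).1) (fun r hr => iroot_rho (by omega) hr)
        (fun r hr => sroot_rho (by omega) hr) hh
      obtain ⟨c, hc', rfl⟩ := ih (by omega) a ha
      obtain ⟨p, hp, rfl⟩ := class_form hσ (by omega) hb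
      refine ⟨fun j => if j = k then p else c j, fun j hj => ?_, ?_⟩
      · show (if j = k then p else c j) ∈ _
        split_ifs with e
        · exact e ▸ hp
        · exact hc' j (by omega)
      · rw [List.range_succ, List.map_append, List.prod_append, List.map_cons, List.map_nil,
          List.prod_singleton]
        beta_reduce
        rw [if_pos rfl]
        exact congrArg (· * _) (congrArg List.prod (List.map_congr_left fun j hj => by
          rw [if_neg (Nat.ne_of_lt (List.mem_range.1 hj))]))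
  rw [V_pos_eq hσ false] at hg
  obtain ⟨c, hc', e⟩ := key 8 le_rfl g hg
  refine ⟨fun k => c k, fun k => hc' k k.2, ?_⟩
  rw [e, List.ofFn_eq_map, ← List.map_coe_finRange_eq_range, List.map_map]
  exact congrArg List.prod (List.map_congr_left fun _ _ => rfl)

/-- The flag of a product. -/
def parity : List (Bool × List ℕ) → Bool
  | [] => false
  | p :: l => xor p.1 (parity l)

theorem combos_mem : ∀ {os : List (List (Bool × List ℕ))} {l : List (Bool × List ℕ)},
    List.Forall₂ (fun p o => p ∈ o) l os → (parity l, (l.map Prod.snd).flatten) ∈ combos os := by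
  intro os l h
  induction h with
  | nil => simp [combos, parity]
  | cons hp _ ih =>
    rename_i p o l os _
    simp only [combos, List.mem_flatMap, List.mem_map]
    exact ⟨p, hp, _, ih, rfl⟩

theorem W_flatten : ∀ L : List (List ℕ), W L.flatten = (L.map W).prod
  | [] => rfl
  | w :: L => by
    rw [List.flatten_cons, List.map_cons, List.prod_cons, ← W_flatten L]
    exact Tits.wordGL_append (D := chevF4) w _

theorem opts_lt : ∀ o ∈ opts, ∀ p ∈ o, ∀ r ∈ p.2, r < chevF4.nroots := by decide +kernel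

theorem cnt_eq_count (L : List ℕ) (b : ℕ) : Tits.cnt L b = (L.count b : ZMod 2) := by
  induction L with
  | nil => simp [Tits.cnt]
  | cons i l ih =>
    rw [Tits.cnt_cons, ih, List.count_cons]
    by_cases h : i = b <;> simp [h, add_comm]

theorem moved_ne_one {w : List ℕ} (hw : ∀ r ∈ w, r < chevF4.nroots) (h : moved w = true) :
    W w * W w ≠ 1 := by
  rw [← Tits.wordGL_append]
  have hww : ∀ r ∈ w ++ w, r < chevF4.nroots := fun r hr => by
    rcases List.mem_append.1 hr with h | h <;> exact hw r h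
  simp only [moved, witness, List.any_eq_true, Bool.and_eq_true, Bool.not_eq_true',
    Nat.beq_eq, Bool.eq_false_iff, ne_eq] at h
  obtain ⟨a, ha, b, hb, hba, hc1⟩ := h
  have ha' : a < chevF4.nroots + chevF4.rank :=
    (by decide : ∀ a ∈ [23, 22, 21, 20, 25, 24, 27, 33], a < chevF4.nroots + chevF4.rank) a ha
  refine Tits.ne_one_of_entry CfsgLib.Chev.F4.checked hww a b ha'
    ((Tits.applyW_spec CfsgLib.Chev.F4.checked hww (L := [a]) (by simpa using ha')).1 b hb) hba ?_
  rw [cnt_eq_count, hc1, Nat.cast_one]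

/-- `²F₄(2)` -/
abbrev R2 : Subgroup (GL chevF4.Idx (ZMod 2)) := twistedF4 (ZMod 2) 1

theorem G1_zero : G1 (ZMod 2) 0 = R2 := rfl

theorem gens_mem (hσ : IsSigma 0 σ) :
    W [33, 24] ∈ R2 ∧ W [28, 30] ∈ R2 ∧ W [25, 27, 30] ∈ R2 ∧ W [25, 27, 28] ∈ R2 := by
  have hq : (f4a, f4b, f4ab, f4aab) ∈ quads := by simp [quads]
  have q01 := quadNF_mem hσ hq (0 : ZMod 2) 1
  have q10 := quadNF_mem hσ hq (1 : ZMod 2) 0
  have q11 := quadNF_mem hσ hq (1 : ZMod 2) 1
  have ha := (show f4a < chevF4.nroots by decide)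
  have hb := (show f4b < chevF4.nroots by decide)
  have hab := (show f4ab < chevF4.nroots by decide)
  have haab := (show f4aab < chevF4.nroots by decide)
  simp only [quadNF, pow_zero, pow_one, mul_one, one_pow, zero_pow two_ne_zero, zero_pow three_ne_zero,
    add_zero, zero_add, show (1 : ZMod 2) + 1 = 0 from rfl, Nat.reduceAdd, zero_pow one_ne_zero,
    elX_zero' ha, elX_zero' hb, elX_zero' hab, elX_zero' haab, one_mul] at q01 q10 q11
  have p1 := (pairWord_mem hσ (1 : ZMod 2)).1
  simp only [one_pow] at p1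
  refine ⟨?_, ?_, ?_, ?_⟩
  · simpa [W_cons, W_nil, f4p1, f4p4, G1_zero] using p1
  · simpa [W_cons, W_nil, f4ab, f4aab, G1_zero] using q01
  · simpa [W_cons, W_nil, f4a, f4b, f4aab, mul_assoc, G1_zero] using q10
  · simpa [W_cons, W_nil, f4a, f4b, f4ab, mul_assoc, G1_zero] using q11

theorem W_eq_of_check {u v : List ℕ} (hu : ∀ r ∈ u, r < chevF4.nroots)
    (hv : ∀ r ∈ v, r < chevF4.nroots)
    (h : Tits.eqCheck chevF4 CfsgLib.Chev.F4.tabs u v = true) : W u = W v :=
  Tits.eq_of_check CfsgLib.Chev.F4.checked hu hv h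

/-- An involution of `²F₄(2)` inside the unipotent group lies in the derived subgroup. -/
theorem mem_commutator (hσ : IsSigma 0 σ) {g : ↥R2} (hg : (g : GL chevF4.Idx (ZMod 2)) ∈ V σ PosR)
    (h2 : g * g = 1) : g ∈ commutator ↥R2 := by
  classical
  obtain ⟨mA, mC, mB0, mB1⟩ := gens_mem hσ
  set gA : ↥R2 := ⟨_, mA⟩
  set gC : ↥R2 := ⟨_, mC⟩
  set gB0 : ↥R2 := ⟨_, mB0⟩
  set gB : ↥R2 := ⟨_, mB1⟩
  let nk : ℕ → ↥R2 := fun k => ⟨nProd chevF4 (ZMod 2) (altW false k), nu_mem hσ false k⟩
  obtain ⟨a, b, c, ea, eb, ec⟩ := Tits.exists_three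
  have hN : ∀ n x : ↥R2, x ∈ commutator ↥R2 → n⁻¹ * x * n ∈ commutator ↥R2 := fun n x hx => by
    simpa using (inferInstance : (commutator ↥R2).Normal).conj_mem x hx n⁻¹
  have hA : gA ∈ commutator ↥R2 := by
    have h : gA = (nk 2)⁻¹ * (a.1 : ↥R2) * nk 2 := by
      refine Subtype.ext ?_
      show W [33, 24] = (nProd chevF4 (ZMod 2) (altW false 2))⁻¹ * (a.1 : GL chevF4.Idx (ZMod 2)) *
        nProd chevF4 (ZMod 2) (altW false 2)
      rw [ea, show ([38, 43] : List ℕ) = [33, 24].map (sigs chevF4 tb (altW false 2)) by decide +kernel,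
        ← W_conj _ (by decide)]
      group
    exact h ▸ hN _ _ a.2
  have hC : gC ∈ commutator ↥R2 := by
    have h : gC = (nk 3)⁻¹ * (c.1 : ↥R2) * nk 3 := by
      refine Subtype.ext ?_
      show W [28, 30] = (nProd chevF4 (ZMod 2) (altW false 3))⁻¹ * (c.1 : GL chevF4.Idx (ZMod 2)) *
        nProd chevF4 (ZMod 2) (altW false 3)
      rw [ec, show ([44, 47] : List ℕ) = [28, 30].map (sigs chevF4 tb (altW false 3)) by decide +kernel,
        ← W_conj _ (by decide)]
      group
    exact h ▸ hN _ _ c.2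
  set ψ := QuotientGroup.mk' (commutator ↥R2) with hψ
  have hψ0 : ∀ x, x ∈ commutator ↥R2 → ψ x = 1 := fun x hx => (QuotientGroup.eq_one_iff x).2 hx
  set β := ψ gB
  have hβ2 : β * β = 1 := by
    rw [← map_mul, show gB * gB = gC from Subtype.ext (by
      show W _ * W _ = W _
      rw [← Tits.wordGL_append]
      exact W_eq_of_check (by decide) (by decide) (by decide +kernel))]
    exact hψ0 _ hC
  have hB0 : ψ gB0 = β := by
    rw [show gB0 = gB * gC from Subtype.ext (by
      show W _ = W _ * W _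
      rw [← Tits.wordGL_append]
      exact W_eq_of_check (by decide) (by decide) (by decide +kernel)), map_mul, hψ0 _ hC, mul_one]
  obtain ⟨f, hf, e⟩ := V_pos_form hσ hg
  have hbase : ∀ s, ∀ p ∈ baseOpts s, ∃ x : ↥R2, (x : GL chevF4.Idx (ZMod 2)) = W p.2 ∧
      ψ x = if p.1 then β else 1 := by
    intro s p hp
    cases s <;> simp only [baseOpts, List.mem_cons, List.not_mem_nil, or_false] at hp
    · rcases hp with rfl | rfl
      · exact ⟨1, rfl, by simp⟩
      · exact ⟨gA, rfl, by simpa using hψ0 _ hA⟩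
    · rcases hp with rfl | rfl | rfl | rfl
      · exact ⟨1, rfl, by simp⟩
      · exact ⟨gC, rfl, by simpa using hψ0 _ hC⟩
      · exact ⟨gB0, rfl, by simpa using hB0⟩
      · exact ⟨gB, rfl, by simp [β]⟩
  choose x hx hxψ using fun k : Fin 8 => hbase _ _ (hf k)
  have hconj : ∀ (n y : ↥R2), ψ (n * y * n⁻¹) = ψ y := fun n y => by
    have hcomm : ∀ u v : ↥R2 ⧸ commutator ↥R2, u * v = v * u := fun u v => by
      induction u using QuotientGroup.induction_on with | _ u => ?_
      induction v using QuotientGroup.induction_on with | _ v => ?_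
      rw [← QuotientGroup.mk_mul, ← QuotientGroup.mk_mul, QuotientGroup.eq,
        show (u * v)⁻¹ * (v * u) = ⁅v⁻¹, u⁻¹⁆ by rw [commutatorElement_def]; group]
      exact Subgroup.commutator_mem_commutator (Subgroup.mem_top _) (Subgroup.mem_top _)
    rw [map_mul, map_mul, hcomm (ψ n), mul_assoc, ← map_mul, mul_inv_cancel, map_one, mul_one]
  set ys : List ↥R2 := List.ofFn fun k : Fin 8 => nk k * x k * (nk k)⁻¹
  set ps : List (Bool × List ℕ) :=
    List.ofFn fun k : Fin 8 => ((f k).1, (f k).2.map (sigs chevF4 tb (altW false k))) with hps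
  have hgy : g = ys.prod := by
    refine Subtype.ext ?_
    rw [e, SubmonoidClass.coe_list_prod, List.map_ofFn]
    refine congrArg List.prod (congrArg List.ofFn (funext fun k => ?_))
    show _ = (nk k : GL chevF4.Idx (ZMod 2)) * (x k : GL chevF4.Idx (ZMod 2)) * (nk k : GL chevF4.Idx (ZMod 2))⁻¹
    rw [hx]
  have hW : (g : GL chevF4.Idx (ZMod 2)) = W (ps.map Prod.snd).flatten := by
    rw [e, W_flatten, hps, List.map_ofFn, List.map_ofFn]
    refine congrArg List.prod (congrArg List.ofFn (funext fun k => ?_))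
    exact W_conj _ (baseOpts_lt _ _ (hf k))
  have hmem : (parity ps, (ps.map Prod.snd).flatten) ∈ combos opts := by
    refine combos_mem ?_
    rw [List.forall₂_iff_get]
    refine ⟨by simp [hps, opts], fun i h1 h2 => ?_⟩
    have hi : i < 8 := by simpa [hps] using h1
    have := opts_eq ⟨i, hi⟩
    rw [List.getD_eq_getElem _ _ (by simpa [opts] using hi)] at this
    simp only [List.get_eq_getElem, hps, List.getElem_ofFn, this, List.mem_map]
    exact ⟨f ⟨i, hi⟩, hf ⟨i, hi⟩, rfl⟩
  have hlt : ∀ r ∈ (ps.map Prod.snd).flatten, r < chevF4.nroots := by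
    intro r hr
    simp only [hps, List.map_ofFn, List.mem_flatten, List.mem_ofFn] at hr
    obtain ⟨l, ⟨k, rfl⟩, hr⟩ := hr
    simp only [Function.comp, List.mem_map] at hr
    obtain ⟨r', hr', rfl⟩ := hr
    exact sigs_lt hc _ (baseOpts_lt _ _ (hf k) r' hr')
  have hsq : W (ps.map Prod.snd).flatten * W (ps.map Prod.snd).flatten = 1 := by
    rw [← hW, ← Subgroup.coe_mul, h2, Subgroup.coe_one]
  have hev : parity ps = false := by
    rcases Bool.eq_false_or_eq_true (parity ps) with h | h
    · exact absurd hsq (moved_ne_one hlt (moved_of_odd hmem h))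
    · exact h
  have hpow : ∀ l : List (Bool × List ℕ),
      (l.map fun p => if p.1 then β else 1).prod = if parity l then β else 1 := by
    intro l
    induction l with
    | nil => simp [parity]
    | cons p l ih =>
      rw [List.map_cons, List.prod_cons, ih, parity]
      cases p.1 <;> cases parity l <;> simp [hβ2]
  rw [← QuotientGroup.eq_one_iff, hgy]
  show ψ ys.prod = 1
  rw [map_list_prod, List.map_ofFn]
  have := hpow ps
  rw [hev, hps, List.map_ofFn] at this
  refine Eq.trans ?_ (this.trans (by simp))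
  refine congrArg List.prod (congrArg List.ofFn (funext fun k => ?_))
  show ψ (_ * _ * _) = _
  rw [hconj, hxψ]
  rfl

theorem exists_conj_mem {G : Type*} [Group G] [Finite G] (U : Subgroup G)
    (hU : Nat.card ↥U = 2 ^ 12) (hG : Nat.card G = 2 ^ 12 * 8775) (g : G) (hg : orderOf g = 2) :
    ∃ a : G, a * g * a⁻¹ ∈ U ∧ a * g * a⁻¹ * (a * g * a⁻¹) = 1 := by
  haveI : Fact (Nat.Prime 2) := ⟨Nat.prime_two⟩
  have hfac : (Nat.card G).factorization 2 = 12 := by
    rw [hG, Nat.factorization_mul (by norm_num) (by norm_num)]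
    rw [Finsupp.add_apply, Nat.Prime.factorization_pow Nat.prime_two, Finsupp.single_eq_same,
      Nat.factorization_eq_zero_of_not_dvd (show ¬ 2 ∣ 8775 by norm_num)]
  let P : Sylow 2 G := Sylow.ofCard U (by rw [hU, hfac])
  have hz : IsPGroup 2 (Subgroup.zpowers g) :=
    IsPGroup.of_card (n := 1) (by rw [Nat.card_zpowers, hg, pow_one])
  obtain ⟨Q, hQ⟩ := hz.exists_le_sylow
  obtain ⟨a, ha⟩ := MulAction.exists_smul_eq G Q P
  refine ⟨a, ?_, ?_⟩
  · have hmem : a * g * a⁻¹ ∈ (P : Subgroup G) := by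
      rw [← ha, Sylow.coe_subgroup_smul]
      exact ⟨g, hQ (Subgroup.mem_zpowers g), rfl⟩
    exact hmem
  · rw [show a * g * a⁻¹ * (a * g * a⁻¹) = a * (g * g) * a⁻¹ by group, ← pow_two, ← hg,
      pow_orderOf_eq_one]
    group

set_option maxHeartbeats 100000 in
/-- The involutions of `²F₄(2)` lie in the derived subgroup, given the order of the group. -/
theorem involution_mem (hcard : Nat.card ↥R2 = 2 ^ 12 * 8775) (g : ↥R2) (hg : orderOf g = 2) :
    g ∈ commutator ↥R2 := by
  obtain ⟨σ, hσ⟩ := exists_sigma (K := ZMod 2) (m := 0) (ZMod.card 2)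
  have h1 : V σ PosR ≤ G1 (ZMod 2) 0 := V_pos_le hσ
  have hle : V σ PosR ≤ R2 := by rw [← G1_zero]; exact h1
  have hcU : Nat.card ↥((V σ PosR).subgroupOf R2) = 2 ^ 12 := by
    rw [Nat.card_congr (Subgroup.subgroupOfEquivOfLe hle).toEquiv, card_V_pos hσ, ZMod.card]
  obtain ⟨a, hmem, h2⟩ := exists_conj_mem _ hcU hcard g hg
  have := (inferInstance : (commutator ↥R2).Normal).conj_mem _
    (mem_commutator hσ (Subgroup.mem_subgroupOf.1 hmem) h2) a⁻¹
  simpa [mul_assoc] using this

end CfsgLib.TitsInvol
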